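import Mathlib
import Cfsg.Prelude.Def_ChevStructure
import Cfsg.Agent.Lib.Weyl.Check
import Cfsg.Agent.Lib.Weyl.Types

set_option autoImplicit false
set_option synthInstance.maxSize 2000
set_option maxRecDepth 100000

namespace H39

open CoxeterSystem

def chainB2_0_0 : List (List ℤ × ℕ) :=
  [([1, 0], 0), ([-1, 1], 1)]

def chainB2_0 : OStep 2 := ⟨[0], [1, 0],
  chainB2_0_0⟩

def chainB2_1_0 : List (List ℤ × ℕ) :=
  [([0, 1], 0), ([2, -1], 1), ([-2, 1], 2),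
   ([0, -1], 3)]

def chainB2_1 : OStep 2 := ⟨[0, 1], [0, 1],
  chainB2_1_0⟩

def chainB2 : List (OStep 2) := [chainB2_0, chainB2_1]

theorem chainB2_ok : chainOK alB2 1 [] chainB2 = true := by decide +kernel

theorem chainB2_hs : chainB2.map (OStep.hs 1) =
    [[0, 1], [0, 1, 2, 3]] := by decide +kernel

theorem finiteB2 {W : Type*} [Group W] (cs : CoxeterSystem (CoxeterMatrix.B 2) W) : Finite W :=
  (chain_poin_univ alB2_len alB2_rows cartanB2 cs _ chainB2_ok _ chainB2_hs).1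

theorem cardB2 {W : Type*} [Group W] (cs : CoxeterSystem (CoxeterMatrix.B 2) W) : Nat.card W = 8 := by
  have := finiteB2 cs
  rw [card_of_poin cs,
    (chain_poin_univ alB2_len alB2_rows cartanB2 cs _ chainB2_ok _ chainB2_hs).2]
  decide +kernel

theorem poinB2 {W : Type*} [Group W] (cs : CoxeterSystem (CoxeterMatrix.B 2) W) {R : Type} [CommRing R]
    (q : R) : poin cs Set.univ q * (q - 1) ^ 2 =
      (q ^ 2 - 1) * (q ^ 4 - 1) := by
  rw [(chain_poin_univ alB2_len alB2_rows cartanB2 cs _ chainB2_ok _ chainB2_hs).2]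
  simp only [List.map_cons, List.map_nil, List.sum_cons, List.sum_nil, List.prod_cons,
    List.prod_nil]
  ring

def chainG2_0_0 : List (List ℤ × ℕ) :=
  [([1, 0], 0), ([-1, 1], 1)]

def chainG2_0 : OStep 2 := ⟨[0], [1, 0],
  chainG2_0_0⟩

def chainG2_1_0 : List (List ℤ × ℕ) :=
  [([0, 1], 0), ([3, -1], 1), ([-3, 2], 2),
   ([3, -2], 3), ([-3, 1], 4), ([0, -1], 5)]

def chainG2_1 : OStep 2 := ⟨[0, 1], [0, 1],
  chainG2_1_0⟩

def chainG2 : List (OStep 2) := [chainG2_0, chainG2_1]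

theorem chainG2_ok : chainOK alG2 1 [] chainG2 = true := by decide +kernel

theorem chainG2_hs : chainG2.map (OStep.hs 1) =
    [[0, 1], [0, 1, 2, 3, 4, 5]] := by decide +kernel

theorem finiteG2 {W : Type*} [Group W] (cs : CoxeterSystem (CoxeterMatrix.G₂) W) : Finite W :=
  (chain_poin_univ alG2_len alG2_rows cartanG2 cs _ chainG2_ok _ chainG2_hs).1

theorem cardG2 {W : Type*} [Group W] (cs : CoxeterSystem (CoxeterMatrix.G₂) W) : Nat.card W = 12 := by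
  have := finiteG2 cs
  rw [card_of_poin cs,
    (chain_poin_univ alG2_len alG2_rows cartanG2 cs _ chainG2_ok _ chainG2_hs).2]
  decide +kernel

theorem poinG2 {W : Type*} [Group W] (cs : CoxeterSystem (CoxeterMatrix.G₂) W) {R : Type} [CommRing R]
    (q : R) : poin cs Set.univ q * (q - 1) ^ 2 =
      (q ^ 2 - 1) * (q ^ 6 - 1) := by
  rw [(chain_poin_univ alG2_len alG2_rows cartanG2 cs _ chainG2_ok _ chainG2_hs).2]
  simp only [List.map_cons, List.map_nil, List.sum_cons, List.sum_nil, List.prod_cons,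
    List.prod_nil]
  ring

def chainD4_0_0 : List (List ℤ × ℕ) :=
  [([1, 0, 0, 0], 0), ([-1, 1, 0, 0], 1)]

def chainD4_0 : OStep 4 := ⟨[0], [1, 0, 0, 0],
  chainD4_0_0⟩

def chainD4_1_0 : List (List ℤ × ℕ) :=
  [([0, 1, 0, 0], 0), ([1, -1, 1, 1], 1), ([-1, 0, 1, 1], 2)]

def chainD4_1 : OStep 4 := ⟨[0, 1], [0, 1, 0, 0],
  chainD4_1_0⟩

def chainD4_2_0 : List (List ℤ × ℕ) :=
  [([0, 0, 1, 0], 0), ([0, 1, -1, 0], 1), ([1, -1, 0, 1], 2),
   ([-1, 0, 0, 1], 3)]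

def chainD4_2 : OStep 4 := ⟨[0, 1, 2], [0, 0, 1, 0],
  chainD4_2_0⟩

def chainD4_3_0 : List (List ℤ × ℕ) :=
  [([0, 0, 0, 1], 0), ([0, 1, 0, -1], 1), ([1, -1, 1, 0], 2),
   ([-1, 0, 1, 0], 3), ([1, 0, -1, 0], 3), ([-1, 1, -1, 0], 4),
   ([0, -1, 0, 1], 5), ([0, 0, 0, -1], 6)]

def chainD4_3 : OStep 4 := ⟨[0, 1, 2, 3], [0, 0, 0, 1],
  chainD4_3_0⟩

def chainD4 : List (OStep 4) := [chainD4_0, chainD4_1, chainD4_2, chainD4_3]

theorem chainD4_ok : chainOK alD4 1 [] chainD4 = true := by decide +kernel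

theorem chainD4_hs : chainD4.map (OStep.hs 1) =
    [[0, 1], [0, 1, 2], [0, 1, 2, 3], [0, 1, 2, 3, 3, 4, 5, 6]] := by decide +kernel

theorem finiteD4 {W : Type*} [Group W] (cs : CoxeterSystem (Cfsg.Lie.coxeterD4) W) : Finite W :=
  (chain_poin_univ alD4_len alD4_rows cartanD4 cs _ chainD4_ok _ chainD4_hs).1

theorem cardD4 {W : Type*} [Group W] (cs : CoxeterSystem (Cfsg.Lie.coxeterD4) W) : Nat.card W = 192 := by
  have := finiteD4 cs
  rw [card_of_poin cs,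
    (chain_poin_univ alD4_len alD4_rows cartanD4 cs _ chainD4_ok _ chainD4_hs).2]
  decide +kernel

theorem poinD4 {W : Type*} [Group W] (cs : CoxeterSystem (Cfsg.Lie.coxeterD4) W) {R : Type} [CommRing R]
    (q : R) : poin cs Set.univ q * (q - 1) ^ 4 =
      (q ^ 2 - 1) * (q ^ 4 - 1) * (q ^ 4 - 1) * (q ^ 6 - 1) := by
  rw [(chain_poin_univ alD4_len alD4_rows cartanD4 cs _ chainD4_ok _ chainD4_hs).2]
  simp only [List.map_cons, List.map_nil, List.sum_cons, List.sum_nil, List.prod_cons,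
    List.prod_nil]
  ring

def chainF4_0_0 : List (List ℤ × ℕ) :=
  [([1, 0, 0, 0], 0), ([-1, 1, 0, 0], 1)]

def chainF4_0 : OStep 4 := ⟨[0], [1, 0, 0, 0],
  chainF4_0_0⟩

def chainF4_1_0 : List (List ℤ × ℕ) :=
  [([0, 1, 0, 0], 0), ([1, -1, 1, 0], 1), ([-1, 0, 1, 0], 2)]

def chainF4_1 : OStep 4 := ⟨[0, 1], [0, 1, 0, 0],
  chainF4_1_0⟩

def chainF4_2_0 : List (List ℤ × ℕ) :=
  [([0, 0, 1, 0], 0), ([0, 2, -1, 1], 1), ([2, -2, 1, 1], 2),
   ([-2, 0, 1, 1], 3), ([2, 0, -1, 2], 3), ([-2, 2, -1, 2], 4),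
   ([0, -2, 1, 2], 5), ([0, 0, -1, 3], 6)]

def chainF4_2 : OStep 4 := ⟨[0, 1, 2], [0, 0, 1, 0],
  chainF4_2_0⟩

def chainF4_3_0 : List (List ℤ × ℕ) :=
  [([0, 0, 0, 1], 0), ([0, 0, 1, -1], 1), ([0, 2, -1, 0], 2),
   ([2, -2, 1, 0], 3), ([-2, 0, 1, 0], 4), ([2, 0, -1, 1], 4),
   ([-2, 2, -1, 1], 5), ([2, 0, 0, -1], 5), ([0, -2, 1, 1], 6),
   ([-2, 2, 0, -1], 6), ([0, 0, -1, 2], 7), ([0, -2, 2, -1], 7),
   ([0, 0, 1, -2], 8), ([0, 2, -2, 1], 8), ([0, 2, -1, -1], 9),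
   ([2, -2, 0, 1], 9), ([2, -2, 1, -1], 10), ([-2, 0, 0, 1], 10),
   ([-2, 0, 1, -1], 11), ([2, 0, -1, 0], 11), ([-2, 2, -1, 0], 12),
   ([0, -2, 1, 0], 13), ([0, 0, -1, 1], 14), ([0, 0, 0, -1], 15)]

def chainF4_3 : OStep 4 := ⟨[0, 1, 2, 3], [0, 0, 0, 1],
  chainF4_3_0⟩

def chainF4 : List (OStep 4) := [chainF4_0, chainF4_1, chainF4_2, chainF4_3]

theorem chainF4_ok : chainOK alF4 1 [] chainF4 = true := by decide +kernel

theorem chainF4_hs : chainF4.map (OStep.hs 1) =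
    [[0, 1], [0, 1, 2], [0, 1, 2, 3, 3, 4, 5, 6], [0, 1, 2, 3, 4, 4, 5, 5, 6, 6, 7, 7, 8, 8, 9, 9, 10, 10, 11, 11, 12, 13, 14, 15]] := by decide +kernel

theorem finiteF4 {W : Type*} [Group W] (cs : CoxeterSystem (CoxeterMatrix.F₄) W) : Finite W :=
  (chain_poin_univ alF4_len alF4_rows cartanF4 cs _ chainF4_ok _ chainF4_hs).1

theorem cardF4 {W : Type*} [Group W] (cs : CoxeterSystem (CoxeterMatrix.F₄) W) : Nat.card W = 1152 := by
  have := finiteF4 cs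
  rw [card_of_poin cs,
    (chain_poin_univ alF4_len alF4_rows cartanF4 cs _ chainF4_ok _ chainF4_hs).2]
  decide +kernel

theorem poinF4 {W : Type*} [Group W] (cs : CoxeterSystem (CoxeterMatrix.F₄) W) {R : Type} [CommRing R]
    (q : R) : poin cs Set.univ q * (q - 1) ^ 4 =
      (q ^ 2 - 1) * (q ^ 6 - 1) * (q ^ 8 - 1) * (q ^ 12 - 1) := by
  rw [(chain_poin_univ alF4_len alF4_rows cartanF4 cs _ chainF4_ok _ chainF4_hs).2]
  simp only [List.map_cons, List.map_nil, List.sum_cons, List.sum_nil, List.prod_cons,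
    List.prod_nil]
  ring

end H39
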