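import Mathlib
import Cfsg.Prelude.Def_ChevStructure
import Cfsg.Agent.Lib.Weyl.Check
import Cfsg.Agent.Lib.Weyl.Types

set_option autoImplicit false
set_option synthInstance.maxSize 2000
set_option maxRecDepth 100000

namespace H39

open CoxeterSystem

/-- The diagram symmetry. -/
def rho2E6 : Equiv.Perm (Fin 6) := ⟨![5, 1, 4, 3, 2, 0], ![5, 1, 4, 3, 2, 0], by decide, by decide⟩

def chain2E6_0_0 : List (List ℤ × ℕ) :=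
  [([0, 0, 1, 0, 1, 0], 0), ([1, 0, -1, 1, 1, 0], 1), ([0, 0, 1, 1, -1, 1], 1),
   ([1, 0, -1, 2, -1, 1], 2)]

def chain2E6_0 : OStep 6 := ⟨[2, 4], [0, 0, 1, 0, 1, 0],
  chain2E6_0_0⟩

def chain2E6_1_0 : List (List ℤ × ℕ) :=
  [([1, 0, 0, 0, 0, 1], 0), ([-1, 0, 1, 0, 0, 1], 1), ([1, 0, 0, 0, 1, -1], 1),
   ([0, 0, -1, 1, 0, 1], 2), ([-1, 0, 1, 0, 1, -1], 2), ([1, 0, 0, 1, -1, 0], 2),
   ([0, 0, -1, 1, 1, -1], 3), ([-1, 0, 1, 1, -1, 0], 3), ([0, 0, -1, 2, -1, 0], 4)]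

def chain2E6_1 : OStep 6 := ⟨[0, 2, 4, 5], [1, 0, 0, 0, 0, 1],
  chain2E6_1_0⟩

def chain2E6_2_0 : List (List ℤ × ℕ) :=
  [([0, 0, 0, 1, 0, 0], 0), ([0, 1, 1, -1, 1, 0], 1), ([1, 1, -1, 0, 1, 0], 2),
   ([0, 1, 1, 0, -1, 1], 2), ([-1, 1, 0, 0, 1, 0], 3), ([1, 1, -1, 1, -1, 1], 3),
   ([0, 1, 1, 0, 0, -1], 3), ([-1, 1, 0, 1, -1, 1], 4), ([1, 2, 0, -1, 0, 1], 4),
   ([1, 1, -1, 1, 0, -1], 4), ([-1, 2, 1, -1, 0, 1], 5), ([-1, 1, 0, 1, 0, -1], 5),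
   ([1, 2, 0, -1, 1, -1], 5), ([0, 2, -1, 0, 0, 1], 6), ([-1, 2, 1, -1, 1, -1], 6),
   ([1, 2, 0, 0, -1, 0], 6), ([0, 2, -1, 0, 1, -1], 7), ([-1, 2, 1, 0, -1, 0], 7),
   ([0, 2, -1, 1, -1, 0], 8), ([0, 3, 0, -1, 0, 0], 9)]

def chain2E6_2 : OStep 6 := ⟨[0, 2, 3, 4, 5], [0, 0, 0, 1, 0, 0],
  chain2E6_2_0⟩

def chain2E6_3_0 : List (List ℤ × ℕ) :=
  [([0, 1, 0, 0, 0, 0], 0), ([0, -1, 0, 1, 0, 0], 1), ([0, 0, 1, -1, 1, 0], 2),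
   ([1, 0, -1, 0, 1, 0], 3), ([0, 0, 1, 0, -1, 1], 3), ([-1, 0, 0, 0, 1, 0], 4),
   ([1, 0, -1, 1, -1, 1], 4), ([0, 0, 1, 0, 0, -1], 4), ([-1, 0, 0, 1, -1, 1], 5),
   ([1, 1, 0, -1, 0, 1], 5), ([1, 0, -1, 1, 0, -1], 5), ([-1, 1, 1, -1, 0, 1], 6),
   ([-1, 0, 0, 1, 0, -1], 6), ([1, -1, 0, 0, 0, 1], 6), ([1, 1, 0, -1, 1, -1], 6),
   ([-1, -1, 1, 0, 0, 1], 7), ([0, 1, -1, 0, 0, 1], 7), ([-1, 1, 1, -1, 1, -1], 7),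
   ([1, -1, 0, 0, 1, -1], 7), ([1, 1, 0, 0, -1, 0], 7), ([0, -1, -1, 1, 0, 1], 8),
   ([-1, -1, 1, 0, 1, -1], 8), ([0, 1, -1, 0, 1, -1], 8), ([-1, 1, 1, 0, -1, 0], 8)]

def chain2E6_3_1 : List (List ℤ × ℕ) :=
  [([1, -1, 0, 1, -1, 0], 8), ([0, 0, 0, -1, 1, 1], 9), ([0, -1, -1, 1, 1, -1], 9),
   ([-1, -1, 1, 1, -1, 0], 9), ([0, 1, -1, 1, -1, 0], 9), ([1, 0, 1, -1, 0, 0], 9),
   ([0, 0, 0, 0, -1, 2], 10), ([0, 0, 0, -1, 2, -1], 10), ([0, -1, -1, 2, -1, 0], 10),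
   ([-1, 0, 2, -1, 0, 0], 10), ([0, 2, 0, -1, 0, 0], 10), ([2, 0, -1, 0, 0, 0], 10),
   ([0, 0, 0, 0, 1, -2], 11), ([0, 0, 0, 1, -2, 1], 11), ([0, 1, 1, -2, 1, 0], 11),
   ([1, 0, -2, 1, 0, 0], 11), ([0, -2, 0, 1, 0, 0], 11), ([-2, 0, 1, 0, 0, 0], 11),
   ([0, 0, 0, 1, -1, -1], 12), ([0, 1, 1, -1, -1, 1], 12), ([0, -1, 1, -1, 1, 0], 12),
   ([1, 1, -1, -1, 1, 0], 12), ([-1, 0, -1, 1, 0, 0], 12), ([0, 1, 1, -1, 0, -1], 13)]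

def chain2E6_3_2 : List (List ℤ × ℕ) :=
  [([0, -1, 1, 0, -1, 1], 13), ([1, 1, -1, 0, -1, 1], 13), ([1, -1, -1, 0, 1, 0], 13),
   ([-1, 1, 0, -1, 1, 0], 13), ([0, -1, 1, 0, 0, -1], 14), ([1, 1, -1, 0, 0, -1], 14),
   ([1, -1, -1, 1, -1, 1], 14), ([-1, 1, 0, 0, -1, 1], 14), ([-1, -1, 0, 0, 1, 0], 14),
   ([1, -1, -1, 1, 0, -1], 15), ([-1, 1, 0, 0, 0, -1], 15), ([-1, -1, 0, 1, -1, 1], 15),
   ([1, 0, 0, -1, 0, 1], 15), ([-1, -1, 0, 1, 0, -1], 16), ([1, 0, 0, -1, 1, -1], 16),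
   ([-1, 0, 1, -1, 0, 1], 16), ([-1, 0, 1, -1, 1, -1], 17), ([1, 0, 0, 0, -1, 0], 17),
   ([0, 0, -1, 0, 0, 1], 17), ([0, 0, -1, 0, 1, -1], 18), ([-1, 0, 1, 0, -1, 0], 18),
   ([0, 0, -1, 1, -1, 0], 19), ([0, 1, 0, -1, 0, 0], 20), ([0, -1, 0, 0, 0, 0], 21)]

def chain2E6_3 : OStep 6 := ⟨[0, 1, 2, 3, 4, 5], [0, 1, 0, 0, 0, 0],
  chain2E6_3_0 ++ chain2E6_3_1 ++ chain2E6_3_2⟩

def chain2E6 : List (OStep 6) := [chain2E6_0, chain2E6_1, chain2E6_2, chain2E6_3]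

theorem chain2E6_ok : chainOK alE6 rho2E6 [] chain2E6 = true := by decide +kernel

theorem chain2E6_hs : chain2E6.map (OStep.hs rho2E6) =
    [[0, 2], [0, 2, 4], [0, 1, 3, 4, 5, 6, 8, 9], [0, 1, 2, 4, 5, 6, 6, 7, 8, 9, 10, 10, 11, 11, 12, 13, 14, 15, 15, 16, 17, 19, 20, 21]] := by decide +kernel

theorem rho2E6_cartan : ∀ i j, matF 6 alE6 (rho2E6 i) (rho2E6 j) = matF 6 alE6 i j := by
  decide +kernel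

theorem card2E6 {W : Type*} [Group W] (cs : CoxeterSystem (CoxeterMatrix.E₆) W) (σ : W ≃* W)
    (hσ : ∀ i, σ (cs.simple i) = cs.simple (rho2E6 i)) : {w | σ w = w}.ncard = 1152 := by
  obtain ⟨h1, h2⟩ := chain_poin_fix alE6_len alE6_rows cartanE6 cs σ hσ rho2E6_cartan _
    chain2E6_ok _ chain2E6_hs
  rw [← poin_one cs h1, h2]
  decide +kernel

theorem poin2E6 {W : Type*} [Group W] (cs : CoxeterSystem (CoxeterMatrix.E₆) W) (σ : W ≃* W)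
    (hσ : ∀ i, σ (cs.simple i) = cs.simple (rho2E6 i)) {R : Type} [CommRing R]
    (q : R) : poin cs {w | σ w = w} q * ((q - 1) ^ 2 * (q ^ 2 - 1) ^ 2) =
      (q ^ 2 - 1) * (q ^ 5 + 1) * (q ^ 6 - 1) * (q ^ 8 - 1) * (q ^ 9 + 1) * (q ^ 12 - 1) := by
  rw [(chain_poin_fix alE6_len alE6_rows cartanE6 cs σ hσ rho2E6_cartan _
    chain2E6_ok _ chain2E6_hs).2]
  simp only [List.map_cons, List.map_nil, List.sum_cons, List.sum_nil, List.prod_cons,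
    List.prod_nil]
  ring

/-- The diagram symmetry. -/
def rho3D4 : Equiv.Perm (Fin 4) := ⟨![2, 1, 3, 0], ![3, 1, 0, 2], by decide, by decide⟩

def chain3D4_0_0 : List (List ℤ × ℕ) :=
  [([1, 0, 1, 1], 0), ([-1, 1, 1, 1], 1), ([1, 1, -1, 1], 1),
   ([1, 1, 1, -1], 1), ([-1, 2, -1, 1], 2), ([-1, 2, 1, -1], 2),
   ([1, 2, -1, -1], 2), ([-1, 3, -1, -1], 3)]

def chain3D4_0 : OStep 4 := ⟨[0, 2, 3], [1, 0, 1, 1],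
  chain3D4_0_0⟩

def chain3D4_1_0 : List (List ℤ × ℕ) :=
  [([0, 1, 0, 0], 0), ([1, -1, 1, 1], 1), ([-1, 0, 1, 1], 2),
   ([1, 0, -1, 1], 2), ([1, 0, 1, -1], 2), ([-1, 1, -1, 1], 3),
   ([-1, 1, 1, -1], 3), ([1, 1, -1, -1], 3), ([0, -1, 0, 2], 4),
   ([-1, 2, -1, -1], 4), ([0, -1, 2, 0], 4), ([2, -1, 0, 0], 4),
   ([0, 1, 0, -2], 5), ([1, -2, 1, 1], 5), ([0, 1, -2, 0], 5),
   ([-2, 1, 0, 0], 5), ([1, -1, 1, -1], 6), ([-1, -1, 1, 1], 6),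
   ([1, -1, -1, 1], 6), ([-1, 0, 1, -1], 7), ([1, 0, -1, -1], 7),
   ([-1, 0, -1, 1], 7), ([-1, 1, -1, -1], 8), ([0, -1, 0, 0], 9)]

def chain3D4_1 : OStep 4 := ⟨[0, 1, 2, 3], [0, 1, 0, 0],
  chain3D4_1_0⟩

def chain3D4 : List (OStep 4) := [chain3D4_0, chain3D4_1]

theorem chain3D4_ok : chainOK alD4 rho3D4 [] chain3D4 = true := by decide +kernel

theorem chain3D4_hs : chain3D4.map (OStep.hs rho3D4) =
    [[0, 3], [0, 1, 4, 5, 8, 9]] := by decide +kernel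

theorem rho3D4_cartan : ∀ i j, matF 4 alD4 (rho3D4 i) (rho3D4 j) = matF 4 alD4 i j := by
  decide +kernel

theorem card3D4 {W : Type*} [Group W] (cs : CoxeterSystem (Cfsg.Lie.coxeterD4) W) (σ : W ≃* W)
    (hσ : ∀ i, σ (cs.simple i) = cs.simple (rho3D4 i)) : {w | σ w = w}.ncard = 12 := by
  obtain ⟨h1, h2⟩ := chain_poin_fix alD4_len alD4_rows cartanD4 cs σ hσ rho3D4_cartan _
    chain3D4_ok _ chain3D4_hs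
  rw [← poin_one cs h1, h2]
  decide +kernel

theorem poin3D4 {W : Type*} [Group W] (cs : CoxeterSystem (Cfsg.Lie.coxeterD4) W) (σ : W ≃* W)
    (hσ : ∀ i, σ (cs.simple i) = cs.simple (rho3D4 i)) {R : Type} [CommRing R]
    (q : R) : poin cs {w | σ w = w} q * ((q - 1) * (q ^ 3 - 1)) =
      (q ^ 2 - 1) * (q ^ 6 - 1) * (q ^ 8 + q ^ 4 + 1) := by
  rw [(chain_poin_fix alD4_len alD4_rows cartanD4 cs σ hσ rho3D4_cartan _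
    chain3D4_ok _ chain3D4_hs).2]
  simp only [List.map_cons, List.map_nil, List.sum_cons, List.sum_nil, List.prod_cons,
    List.prod_nil]
  ring

end H39
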