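import Mathlib
import Cfsg.Prelude.Def_ChevStructure
import Cfsg.Agent.Lib.Weyl.Check
import Cfsg.Agent.Lib.Weyl.Types

set_option autoImplicit false
set_option synthInstance.maxSize 2000
set_option maxRecDepth 100000

namespace H39

open CoxeterSystem

def chainE6_0_0 : List (List ℤ × ℕ) :=
  [([1, 0, 0, 0, 0, 0], 0), ([-1, 0, 1, 0, 0, 0], 1)]

def chainE6_0 : OStep 6 := ⟨[0], [1, 0, 0, 0, 0, 0],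
  chainE6_0_0⟩

def chainE6_1_0 : List (List ℤ × ℕ) :=
  [([0, 0, 1, 0, 0, 0], 0), ([1, 0, -1, 1, 0, 0], 1), ([-1, 0, 0, 1, 0, 0], 2)]

def chainE6_1 : OStep 6 := ⟨[0, 2], [0, 0, 1, 0, 0, 0],
  chainE6_1_0⟩

def chainE6_2_0 : List (List ℤ × ℕ) :=
  [([0, 0, 0, 1, 0, 0], 0), ([0, 1, 1, -1, 1, 0], 1), ([1, 1, -1, 0, 1, 0], 2),
   ([-1, 1, 0, 0, 1, 0], 3)]

def chainE6_2 : OStep 6 := ⟨[0, 2, 3], [0, 0, 0, 1, 0, 0],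
  chainE6_2_0⟩

def chainE6_3_0 : List (List ℤ × ℕ) :=
  [([0, 1, 0, 0, 0, 0], 0), ([0, -1, 0, 1, 0, 0], 1), ([0, 0, 1, -1, 1, 0], 2),
   ([1, 0, -1, 0, 1, 0], 3), ([-1, 0, 0, 0, 1, 0], 4)]

def chainE6_3 : OStep 6 := ⟨[0, 1, 2, 3], [0, 1, 0, 0, 0, 0],
  chainE6_3_0⟩

def chainE6_4_0 : List (List ℤ × ℕ) :=
  [([0, 0, 0, 0, 1, 0], 0), ([0, 0, 0, 1, -1, 1], 1), ([0, 1, 1, -1, 0, 1], 2),
   ([0, -1, 1, 0, 0, 1], 3), ([1, 1, -1, 0, 0, 1], 3), ([1, -1, -1, 1, 0, 1], 4),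
   ([-1, 1, 0, 0, 0, 1], 4), ([-1, -1, 0, 1, 0, 1], 5), ([1, 0, 0, -1, 1, 1], 5),
   ([-1, 0, 1, -1, 1, 1], 6), ([1, 0, 0, 0, -1, 2], 6), ([0, 0, -1, 0, 1, 1], 7),
   ([-1, 0, 1, 0, -1, 2], 7), ([0, 0, -1, 1, -1, 2], 8), ([0, 1, 0, -1, 0, 2], 9),
   ([0, -1, 0, 0, 0, 2], 10)]

def chainE6_4 : OStep 6 := ⟨[0, 1, 2, 3, 4], [0, 0, 0, 0, 1, 0],
  chainE6_4_0⟩

def chainE6_5_0 : List (List ℤ × ℕ) :=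
  [([0, 0, 0, 0, 0, 1], 0), ([0, 0, 0, 0, 1, -1], 1), ([0, 0, 0, 1, -1, 0], 2),
   ([0, 1, 1, -1, 0, 0], 3), ([0, -1, 1, 0, 0, 0], 4), ([1, 1, -1, 0, 0, 0], 4),
   ([1, -1, -1, 1, 0, 0], 5), ([-1, 1, 0, 0, 0, 0], 5), ([-1, -1, 0, 1, 0, 0], 6),
   ([1, 0, 0, -1, 1, 0], 6), ([-1, 0, 1, -1, 1, 0], 7), ([1, 0, 0, 0, -1, 1], 7),
   ([0, 0, -1, 0, 1, 0], 8), ([-1, 0, 1, 0, -1, 1], 8), ([1, 0, 0, 0, 0, -1], 8),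
   ([0, 0, -1, 1, -1, 1], 9), ([-1, 0, 1, 0, 0, -1], 9), ([0, 1, 0, -1, 0, 1], 10),
   ([0, 0, -1, 1, 0, -1], 10), ([0, -1, 0, 0, 0, 1], 11), ([0, 1, 0, -1, 1, -1], 11),
   ([0, -1, 0, 0, 1, -1], 12), ([0, 1, 0, 0, -1, 0], 12), ([0, -1, 0, 1, -1, 0], 13)]

def chainE6_5_1 : List (List ℤ × ℕ) :=
  [([0, 0, 1, -1, 0, 0], 14), ([1, 0, -1, 0, 0, 0], 15), ([-1, 0, 0, 0, 0, 0], 16)]

def chainE6_5 : OStep 6 := ⟨[0, 1, 2, 3, 4, 5], [0, 0, 0, 0, 0, 1],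
  chainE6_5_0 ++ chainE6_5_1⟩

def chainE6 : List (OStep 6) := [chainE6_0, chainE6_1, chainE6_2, chainE6_3, chainE6_4, chainE6_5]

theorem chainE6_ok : chainOK alE6 1 [] chainE6 = true := by decide +kernel

theorem chainE6_hs : chainE6.map (OStep.hs 1) =
    [[0, 1], [0, 1, 2], [0, 1, 2, 3], [0, 1, 2, 3, 4], [0, 1, 2, 3, 3, 4, 4, 5, 5, 6, 6, 7, 7, 8, 9, 10], [0, 1, 2, 3, 4, 4, 5, 5, 6, 6, 7, 7, 8, 8, 8, 9, 9, 10, 10, 11, 11, 12, 12, 13, 14, 15, 16]] := by decide +kernel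

theorem finiteE6 {W : Type*} [Group W] (cs : CoxeterSystem (CoxeterMatrix.E₆) W) : Finite W :=
  (chain_poin_univ alE6_len alE6_rows cartanE6 cs _ chainE6_ok _ chainE6_hs).1

theorem cardE6 {W : Type*} [Group W] (cs : CoxeterSystem (CoxeterMatrix.E₆) W) : Nat.card W = 51840 := by
  have := finiteE6 cs
  rw [card_of_poin cs,
    (chain_poin_univ alE6_len alE6_rows cartanE6 cs _ chainE6_ok _ chainE6_hs).2]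
  decide +kernel

theorem poinE6 {W : Type*} [Group W] (cs : CoxeterSystem (CoxeterMatrix.E₆) W) {R : Type} [CommRing R]
    (q : R) : poin cs Set.univ q * (q - 1) ^ 6 =
      (q ^ 2 - 1) * (q ^ 5 - 1) * (q ^ 6 - 1) * (q ^ 8 - 1) * (q ^ 9 - 1) * (q ^ 12 - 1) := by
  rw [(chain_poin_univ alE6_len alE6_rows cartanE6 cs _ chainE6_ok _ chainE6_hs).2]
  simp only [List.map_cons, List.map_nil, List.sum_cons, List.sum_nil, List.prod_cons,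
    List.prod_nil]
  ring

def chainE7_0_0 : List (List ℤ × ℕ) :=
  [([1, 0, 0, 0, 0, 0, 0], 0), ([-1, 0, 1, 0, 0, 0, 0], 1)]

def chainE7_0 : OStep 7 := ⟨[0], [1, 0, 0, 0, 0, 0, 0],
  chainE7_0_0⟩

def chainE7_1_0 : List (List ℤ × ℕ) :=
  [([0, 0, 1, 0, 0, 0, 0], 0), ([1, 0, -1, 1, 0, 0, 0], 1), ([-1, 0, 0, 1, 0, 0, 0], 2)]

def chainE7_1 : OStep 7 := ⟨[0, 2], [0, 0, 1, 0, 0, 0, 0],
  chainE7_1_0⟩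

def chainE7_2_0 : List (List ℤ × ℕ) :=
  [([0, 0, 0, 1, 0, 0, 0], 0), ([0, 1, 1, -1, 1, 0, 0], 1), ([1, 1, -1, 0, 1, 0, 0], 2),
   ([-1, 1, 0, 0, 1, 0, 0], 3)]

def chainE7_2 : OStep 7 := ⟨[0, 2, 3], [0, 0, 0, 1, 0, 0, 0],
  chainE7_2_0⟩

def chainE7_3_0 : List (List ℤ × ℕ) :=
  [([0, 1, 0, 0, 0, 0, 0], 0), ([0, -1, 0, 1, 0, 0, 0], 1), ([0, 0, 1, -1, 1, 0, 0], 2),
   ([1, 0, -1, 0, 1, 0, 0], 3), ([-1, 0, 0, 0, 1, 0, 0], 4)]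

def chainE7_3 : OStep 7 := ⟨[0, 1, 2, 3], [0, 1, 0, 0, 0, 0, 0],
  chainE7_3_0⟩

def chainE7_4_0 : List (List ℤ × ℕ) :=
  [([0, 0, 0, 0, 1, 0, 0], 0), ([0, 0, 0, 1, -1, 1, 0], 1), ([0, 1, 1, -1, 0, 1, 0], 2),
   ([0, -1, 1, 0, 0, 1, 0], 3), ([1, 1, -1, 0, 0, 1, 0], 3), ([1, -1, -1, 1, 0, 1, 0], 4),
   ([-1, 1, 0, 0, 0, 1, 0], 4), ([-1, -1, 0, 1, 0, 1, 0], 5), ([1, 0, 0, -1, 1, 1, 0], 5),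
   ([-1, 0, 1, -1, 1, 1, 0], 6), ([1, 0, 0, 0, -1, 2, 0], 6), ([0, 0, -1, 0, 1, 1, 0], 7),
   ([-1, 0, 1, 0, -1, 2, 0], 7), ([0, 0, -1, 1, -1, 2, 0], 8), ([0, 1, 0, -1, 0, 2, 0], 9),
   ([0, -1, 0, 0, 0, 2, 0], 10)]

def chainE7_4 : OStep 7 := ⟨[0, 1, 2, 3, 4], [0, 0, 0, 0, 1, 0, 0],
  chainE7_4_0⟩

def chainE7_5_0 : List (List ℤ × ℕ) :=
  [([0, 0, 0, 0, 0, 1, 0], 0), ([0, 0, 0, 0, 1, -1, 1], 1), ([0, 0, 0, 1, -1, 0, 1], 2),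
   ([0, 1, 1, -1, 0, 0, 1], 3), ([0, -1, 1, 0, 0, 0, 1], 4), ([1, 1, -1, 0, 0, 0, 1], 4),
   ([1, -1, -1, 1, 0, 0, 1], 5), ([-1, 1, 0, 0, 0, 0, 1], 5), ([-1, -1, 0, 1, 0, 0, 1], 6),
   ([1, 0, 0, -1, 1, 0, 1], 6), ([-1, 0, 1, -1, 1, 0, 1], 7), ([1, 0, 0, 0, -1, 1, 1], 7),
   ([0, 0, -1, 0, 1, 0, 1], 8), ([-1, 0, 1, 0, -1, 1, 1], 8), ([1, 0, 0, 0, 0, -1, 2], 8),
   ([0, 0, -1, 1, -1, 1, 1], 9), ([-1, 0, 1, 0, 0, -1, 2], 9), ([0, 1, 0, -1, 0, 1, 1], 10),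
   ([0, 0, -1, 1, 0, -1, 2], 10), ([0, -1, 0, 0, 0, 1, 1], 11), ([0, 1, 0, -1, 1, -1, 2], 11),
   ([0, -1, 0, 0, 1, -1, 2], 12), ([0, 1, 0, 0, -1, 0, 2], 12), ([0, -1, 0, 1, -1, 0, 2], 13)]

def chainE7_5_1 : List (List ℤ × ℕ) :=
  [([0, 0, 1, -1, 0, 0, 2], 14), ([1, 0, -1, 0, 0, 0, 2], 15), ([-1, 0, 0, 0, 0, 0, 2], 16)]

def chainE7_5 : OStep 7 := ⟨[0, 1, 2, 3, 4, 5], [0, 0, 0, 0, 0, 1, 0],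
  chainE7_5_0 ++ chainE7_5_1⟩

def chainE7_6_0 : List (List ℤ × ℕ) :=
  [([0, 0, 0, 0, 0, 0, 1], 0), ([0, 0, 0, 0, 0, 1, -1], 1), ([0, 0, 0, 0, 1, -1, 0], 2),
   ([0, 0, 0, 1, -1, 0, 0], 3), ([0, 1, 1, -1, 0, 0, 0], 4), ([0, -1, 1, 0, 0, 0, 0], 5),
   ([1, 1, -1, 0, 0, 0, 0], 5), ([1, -1, -1, 1, 0, 0, 0], 6), ([-1, 1, 0, 0, 0, 0, 0], 6),
   ([-1, -1, 0, 1, 0, 0, 0], 7), ([1, 0, 0, -1, 1, 0, 0], 7), ([-1, 0, 1, -1, 1, 0, 0], 8),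
   ([1, 0, 0, 0, -1, 1, 0], 8), ([0, 0, -1, 0, 1, 0, 0], 9), ([-1, 0, 1, 0, -1, 1, 0], 9),
   ([1, 0, 0, 0, 0, -1, 1], 9), ([0, 0, -1, 1, -1, 1, 0], 10), ([-1, 0, 1, 0, 0, -1, 1], 10),
   ([1, 0, 0, 0, 0, 0, -1], 10), ([0, 1, 0, -1, 0, 1, 0], 11), ([0, 0, -1, 1, 0, -1, 1], 11),
   ([-1, 0, 1, 0, 0, 0, -1], 11), ([0, -1, 0, 0, 0, 1, 0], 12), ([0, 1, 0, -1, 1, -1, 1], 12)]

def chainE7_6_1 : List (List ℤ × ℕ) :=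
  [([0, 0, -1, 1, 0, 0, -1], 12), ([0, -1, 0, 0, 1, -1, 1], 13), ([0, 1, 0, 0, -1, 0, 1], 13),
   ([0, 1, 0, -1, 1, 0, -1], 13), ([0, -1, 0, 1, -1, 0, 1], 14), ([0, -1, 0, 0, 1, 0, -1], 14),
   ([0, 1, 0, 0, -1, 1, -1], 14), ([0, 0, 1, -1, 0, 0, 1], 15), ([0, -1, 0, 1, -1, 1, -1], 15),
   ([0, 1, 0, 0, 0, -1, 0], 15), ([1, 0, -1, 0, 0, 0, 1], 16), ([0, 0, 1, -1, 0, 1, -1], 16),
   ([0, -1, 0, 1, 0, -1, 0], 16), ([-1, 0, 0, 0, 0, 0, 1], 17), ([1, 0, -1, 0, 0, 1, -1], 17),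
   ([0, 0, 1, -1, 1, -1, 0], 17), ([-1, 0, 0, 0, 0, 1, -1], 18), ([1, 0, -1, 0, 1, -1, 0], 18),
   ([0, 0, 1, 0, -1, 0, 0], 18), ([-1, 0, 0, 0, 1, -1, 0], 19), ([1, 0, -1, 1, -1, 0, 0], 19),
   ([-1, 0, 0, 1, -1, 0, 0], 20), ([1, 1, 0, -1, 0, 0, 0], 20), ([-1, 1, 1, -1, 0, 0, 0], 21)]

def chainE7_6_2 : List (List ℤ × ℕ) :=
  [([1, -1, 0, 0, 0, 0, 0], 21), ([-1, -1, 1, 0, 0, 0, 0], 22), ([0, 1, -1, 0, 0, 0, 0], 22),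
   ([0, -1, -1, 1, 0, 0, 0], 23), ([0, 0, 0, -1, 1, 0, 0], 24), ([0, 0, 0, 0, -1, 1, 0], 25),
   ([0, 0, 0, 0, 0, -1, 1], 26), ([0, 0, 0, 0, 0, 0, -1], 27)]

def chainE7_6 : OStep 7 := ⟨[0, 1, 2, 3, 4, 5, 6], [0, 0, 0, 0, 0, 0, 1],
  chainE7_6_0 ++ chainE7_6_1 ++ chainE7_6_2⟩

def chainE7 : List (OStep 7) := [chainE7_0, chainE7_1, chainE7_2, chainE7_3, chainE7_4, chainE7_5, chainE7_6]

theorem chainE7_ok : chainOK alE7 1 [] chainE7 = true := by decide +kernel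

theorem chainE7_hs : chainE7.map (OStep.hs 1) =
    [[0, 1], [0, 1, 2], [0, 1, 2, 3], [0, 1, 2, 3, 4], [0, 1, 2, 3, 3, 4, 4, 5, 5, 6, 6, 7, 7, 8, 9, 10], [0, 1, 2, 3, 4, 4, 5, 5, 6, 6, 7, 7, 8, 8, 8, 9, 9, 10, 10, 11, 11, 12, 12, 13, 14, 15, 16], [0, 1, 2, 3, 4, 5, 5, 6, 6, 7, 7, 8, 8, 9, 9, 9, 10, 10, 10, 11, 11, 11, 12, 12, 12, 13, 13, 13, 14, 14, 14, 15, 15, 15, 16, 16, 16, 17, 17, 17, 18, 18, 18, 19, 19, 20, 20, 21, 21, 22, 22, 23, 24, 25, 26, 27]] := by decide +kernel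

theorem finiteE7 {W : Type*} [Group W] (cs : CoxeterSystem (CoxeterMatrix.E₇) W) : Finite W :=
  (chain_poin_univ alE7_len alE7_rows cartanE7 cs _ chainE7_ok _ chainE7_hs).1

theorem cardE7 {W : Type*} [Group W] (cs : CoxeterSystem (CoxeterMatrix.E₇) W) : Nat.card W = 2903040 := by
  have := finiteE7 cs
  rw [card_of_poin cs,
    (chain_poin_univ alE7_len alE7_rows cartanE7 cs _ chainE7_ok _ chainE7_hs).2]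
  decide +kernel

theorem poinE7 {W : Type*} [Group W] (cs : CoxeterSystem (CoxeterMatrix.E₇) W) {R : Type} [CommRing R]
    (q : R) : poin cs Set.univ q * (q - 1) ^ 7 =
      (q ^ 2 - 1) * (q ^ 6 - 1) * (q ^ 8 - 1) * (q ^ 10 - 1) * (q ^ 12 - 1) * (q ^ 14 - 1) * (q ^ 18 - 1) := by
  rw [(chain_poin_univ alE7_len alE7_rows cartanE7 cs _ chainE7_ok _ chainE7_hs).2]
  simp only [List.map_cons, List.map_nil, List.sum_cons, List.sum_nil, List.prod_cons,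
    List.prod_nil]
  ring

end H39
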