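import Mathlib
import Cfsg.Prelude.Def_ChevStructure
import Cfsg.Agent.Lib.Weyl.Check
import Cfsg.Agent.Lib.Weyl.Types

set_option autoImplicit false
set_option synthInstance.maxSize 2000
set_option maxRecDepth 100000

namespace H39

open CoxeterSystem

def chainE8_0_0 : List (List ℤ × ℕ) :=
  [([1, 0, 0, 0, 0, 0, 0, 0], 0), ([-1, 0, 1, 0, 0, 0, 0, 0], 1)]

def chainE8_0 : OStep 8 := ⟨[0], [1, 0, 0, 0, 0, 0, 0, 0],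
  chainE8_0_0⟩

def chainE8_1_0 : List (List ℤ × ℕ) :=
  [([0, 0, 1, 0, 0, 0, 0, 0], 0), ([1, 0, -1, 1, 0, 0, 0, 0], 1), ([-1, 0, 0, 1, 0, 0, 0, 0], 2)]

def chainE8_1 : OStep 8 := ⟨[0, 2], [0, 0, 1, 0, 0, 0, 0, 0],
  chainE8_1_0⟩

def chainE8_2_0 : List (List ℤ × ℕ) :=
  [([0, 0, 0, 1, 0, 0, 0, 0], 0), ([0, 1, 1, -1, 1, 0, 0, 0], 1), ([1, 1, -1, 0, 1, 0, 0, 0], 2),
   ([-1, 1, 0, 0, 1, 0, 0, 0], 3)]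

def chainE8_2 : OStep 8 := ⟨[0, 2, 3], [0, 0, 0, 1, 0, 0, 0, 0],
  chainE8_2_0⟩

def chainE8_3_0 : List (List ℤ × ℕ) :=
  [([0, 1, 0, 0, 0, 0, 0, 0], 0), ([0, -1, 0, 1, 0, 0, 0, 0], 1), ([0, 0, 1, -1, 1, 0, 0, 0], 2),
   ([1, 0, -1, 0, 1, 0, 0, 0], 3), ([-1, 0, 0, 0, 1, 0, 0, 0], 4)]

def chainE8_3 : OStep 8 := ⟨[0, 1, 2, 3], [0, 1, 0, 0, 0, 0, 0, 0],
  chainE8_3_0⟩

def chainE8_4_0 : List (List ℤ × ℕ) :=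
  [([0, 0, 0, 0, 1, 0, 0, 0], 0), ([0, 0, 0, 1, -1, 1, 0, 0], 1), ([0, 1, 1, -1, 0, 1, 0, 0], 2),
   ([0, -1, 1, 0, 0, 1, 0, 0], 3), ([1, 1, -1, 0, 0, 1, 0, 0], 3), ([1, -1, -1, 1, 0, 1, 0, 0], 4),
   ([-1, 1, 0, 0, 0, 1, 0, 0], 4), ([-1, -1, 0, 1, 0, 1, 0, 0], 5), ([1, 0, 0, -1, 1, 1, 0, 0], 5),
   ([-1, 0, 1, -1, 1, 1, 0, 0], 6), ([1, 0, 0, 0, -1, 2, 0, 0], 6), ([0, 0, -1, 0, 1, 1, 0, 0], 7),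
   ([-1, 0, 1, 0, -1, 2, 0, 0], 7), ([0, 0, -1, 1, -1, 2, 0, 0], 8), ([0, 1, 0, -1, 0, 2, 0, 0], 9),
   ([0, -1, 0, 0, 0, 2, 0, 0], 10)]

def chainE8_4 : OStep 8 := ⟨[0, 1, 2, 3, 4], [0, 0, 0, 0, 1, 0, 0, 0],
  chainE8_4_0⟩

def chainE8_5_0 : List (List ℤ × ℕ) :=
  [([0, 0, 0, 0, 0, 1, 0, 0], 0), ([0, 0, 0, 0, 1, -1, 1, 0], 1), ([0, 0, 0, 1, -1, 0, 1, 0], 2),
   ([0, 1, 1, -1, 0, 0, 1, 0], 3), ([0, -1, 1, 0, 0, 0, 1, 0], 4), ([1, 1, -1, 0, 0, 0, 1, 0], 4),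
   ([1, -1, -1, 1, 0, 0, 1, 0], 5), ([-1, 1, 0, 0, 0, 0, 1, 0], 5), ([-1, -1, 0, 1, 0, 0, 1, 0], 6),
   ([1, 0, 0, -1, 1, 0, 1, 0], 6), ([-1, 0, 1, -1, 1, 0, 1, 0], 7), ([1, 0, 0, 0, -1, 1, 1, 0], 7),
   ([0, 0, -1, 0, 1, 0, 1, 0], 8), ([-1, 0, 1, 0, -1, 1, 1, 0], 8), ([1, 0, 0, 0, 0, -1, 2, 0], 8),
   ([0, 0, -1, 1, -1, 1, 1, 0], 9), ([-1, 0, 1, 0, 0, -1, 2, 0], 9), ([0, 1, 0, -1, 0, 1, 1, 0], 10),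
   ([0, 0, -1, 1, 0, -1, 2, 0], 10), ([0, -1, 0, 0, 0, 1, 1, 0], 11), ([0, 1, 0, -1, 1, -1, 2, 0], 11),
   ([0, -1, 0, 0, 1, -1, 2, 0], 12), ([0, 1, 0, 0, -1, 0, 2, 0], 12), ([0, -1, 0, 1, -1, 0, 2, 0], 13)]

def chainE8_5_1 : List (List ℤ × ℕ) :=
  [([0, 0, 1, -1, 0, 0, 2, 0], 14), ([1, 0, -1, 0, 0, 0, 2, 0], 15), ([-1, 0, 0, 0, 0, 0, 2, 0], 16)]

def chainE8_5 : OStep 8 := ⟨[0, 1, 2, 3, 4, 5], [0, 0, 0, 0, 0, 1, 0, 0],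
  chainE8_5_0 ++ chainE8_5_1⟩

def chainE8_6_0 : List (List ℤ × ℕ) :=
  [([0, 0, 0, 0, 0, 0, 1, 0], 0), ([0, 0, 0, 0, 0, 1, -1, 1], 1), ([0, 0, 0, 0, 1, -1, 0, 1], 2),
   ([0, 0, 0, 1, -1, 0, 0, 1], 3), ([0, 1, 1, -1, 0, 0, 0, 1], 4), ([0, -1, 1, 0, 0, 0, 0, 1], 5),
   ([1, 1, -1, 0, 0, 0, 0, 1], 5), ([1, -1, -1, 1, 0, 0, 0, 1], 6), ([-1, 1, 0, 0, 0, 0, 0, 1], 6),
   ([-1, -1, 0, 1, 0, 0, 0, 1], 7), ([1, 0, 0, -1, 1, 0, 0, 1], 7), ([-1, 0, 1, -1, 1, 0, 0, 1], 8),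
   ([1, 0, 0, 0, -1, 1, 0, 1], 8), ([0, 0, -1, 0, 1, 0, 0, 1], 9), ([-1, 0, 1, 0, -1, 1, 0, 1], 9),
   ([1, 0, 0, 0, 0, -1, 1, 1], 9), ([0, 0, -1, 1, -1, 1, 0, 1], 10), ([-1, 0, 1, 0, 0, -1, 1, 1], 10),
   ([1, 0, 0, 0, 0, 0, -1, 2], 10), ([0, 1, 0, -1, 0, 1, 0, 1], 11), ([0, 0, -1, 1, 0, -1, 1, 1], 11),
   ([-1, 0, 1, 0, 0, 0, -1, 2], 11), ([0, -1, 0, 0, 0, 1, 0, 1], 12), ([0, 1, 0, -1, 1, -1, 1, 1], 12)]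

def chainE8_6_1 : List (List ℤ × ℕ) :=
  [([0, 0, -1, 1, 0, 0, -1, 2], 12), ([0, -1, 0, 0, 1, -1, 1, 1], 13), ([0, 1, 0, 0, -1, 0, 1, 1], 13),
   ([0, 1, 0, -1, 1, 0, -1, 2], 13), ([0, -1, 0, 1, -1, 0, 1, 1], 14), ([0, -1, 0, 0, 1, 0, -1, 2], 14),
   ([0, 1, 0, 0, -1, 1, -1, 2], 14), ([0, 0, 1, -1, 0, 0, 1, 1], 15), ([0, -1, 0, 1, -1, 1, -1, 2], 15),
   ([0, 1, 0, 0, 0, -1, 0, 2], 15), ([1, 0, -1, 0, 0, 0, 1, 1], 16), ([0, 0, 1, -1, 0, 1, -1, 2], 16),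
   ([0, -1, 0, 1, 0, -1, 0, 2], 16), ([-1, 0, 0, 0, 0, 0, 1, 1], 17), ([1, 0, -1, 0, 0, 1, -1, 2], 17),
   ([0, 0, 1, -1, 1, -1, 0, 2], 17), ([-1, 0, 0, 0, 0, 1, -1, 2], 18), ([1, 0, -1, 0, 1, -1, 0, 2], 18),
   ([0, 0, 1, 0, -1, 0, 0, 2], 18), ([-1, 0, 0, 0, 1, -1, 0, 2], 19), ([1, 0, -1, 1, -1, 0, 0, 2], 19),
   ([-1, 0, 0, 1, -1, 0, 0, 2], 20), ([1, 1, 0, -1, 0, 0, 0, 2], 20), ([-1, 1, 1, -1, 0, 0, 0, 2], 21)]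

def chainE8_6_2 : List (List ℤ × ℕ) :=
  [([1, -1, 0, 0, 0, 0, 0, 2], 21), ([-1, -1, 1, 0, 0, 0, 0, 2], 22), ([0, 1, -1, 0, 0, 0, 0, 2], 22),
   ([0, -1, -1, 1, 0, 0, 0, 2], 23), ([0, 0, 0, -1, 1, 0, 0, 2], 24), ([0, 0, 0, 0, -1, 1, 0, 2], 25),
   ([0, 0, 0, 0, 0, -1, 1, 2], 26), ([0, 0, 0, 0, 0, 0, -1, 3], 27)]

def chainE8_6 : OStep 8 := ⟨[0, 1, 2, 3, 4, 5, 6], [0, 0, 0, 0, 0, 0, 1, 0],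
  chainE8_6_0 ++ chainE8_6_1 ++ chainE8_6_2⟩

def chainE8_7_0 : List (List ℤ × ℕ) :=
  [([0, 0, 0, 0, 0, 0, 0, 1], 0), ([0, 0, 0, 0, 0, 0, 1, -1], 1), ([0, 0, 0, 0, 0, 1, -1, 0], 2),
   ([0, 0, 0, 0, 1, -1, 0, 0], 3), ([0, 0, 0, 1, -1, 0, 0, 0], 4), ([0, 1, 1, -1, 0, 0, 0, 0], 5),
   ([0, -1, 1, 0, 0, 0, 0, 0], 6), ([1, 1, -1, 0, 0, 0, 0, 0], 6), ([1, -1, -1, 1, 0, 0, 0, 0], 7),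
   ([-1, 1, 0, 0, 0, 0, 0, 0], 7), ([-1, -1, 0, 1, 0, 0, 0, 0], 8), ([1, 0, 0, -1, 1, 0, 0, 0], 8),
   ([-1, 0, 1, -1, 1, 0, 0, 0], 9), ([1, 0, 0, 0, -1, 1, 0, 0], 9), ([0, 0, -1, 0, 1, 0, 0, 0], 10),
   ([-1, 0, 1, 0, -1, 1, 0, 0], 10), ([1, 0, 0, 0, 0, -1, 1, 0], 10), ([0, 0, -1, 1, -1, 1, 0, 0], 11),
   ([-1, 0, 1, 0, 0, -1, 1, 0], 11), ([1, 0, 0, 0, 0, 0, -1, 1], 11), ([0, 1, 0, -1, 0, 1, 0, 0], 12),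
   ([0, 0, -1, 1, 0, -1, 1, 0], 12), ([-1, 0, 1, 0, 0, 0, -1, 1], 12), ([1, 0, 0, 0, 0, 0, 0, -1], 12)]

def chainE8_7_1 : List (List ℤ × ℕ) :=
  [([0, -1, 0, 0, 0, 1, 0, 0], 13), ([0, 1, 0, -1, 1, -1, 1, 0], 13), ([0, 0, -1, 1, 0, 0, -1, 1], 13),
   ([-1, 0, 1, 0, 0, 0, 0, -1], 13), ([0, -1, 0, 0, 1, -1, 1, 0], 14), ([0, 1, 0, 0, -1, 0, 1, 0], 14),
   ([0, 1, 0, -1, 1, 0, -1, 1], 14), ([0, 0, -1, 1, 0, 0, 0, -1], 14), ([0, -1, 0, 1, -1, 0, 1, 0], 15),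
   ([0, -1, 0, 0, 1, 0, -1, 1], 15), ([0, 1, 0, 0, -1, 1, -1, 1], 15), ([0, 1, 0, -1, 1, 0, 0, -1], 15),
   ([0, 0, 1, -1, 0, 0, 1, 0], 16), ([0, -1, 0, 1, -1, 1, -1, 1], 16), ([0, -1, 0, 0, 1, 0, 0, -1], 16),
   ([0, 1, 0, 0, 0, -1, 0, 1], 16), ([0, 1, 0, 0, -1, 1, 0, -1], 16), ([1, 0, -1, 0, 0, 0, 1, 0], 17),
   ([0, 0, 1, -1, 0, 1, -1, 1], 17), ([0, -1, 0, 1, 0, -1, 0, 1], 17), ([0, -1, 0, 1, -1, 1, 0, -1], 17),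
   ([0, 1, 0, 0, 0, -1, 1, -1], 17), ([-1, 0, 0, 0, 0, 0, 1, 0], 18), ([1, 0, -1, 0, 0, 1, -1, 1], 18)]

def chainE8_7_2 : List (List ℤ × ℕ) :=
  [([0, 0, 1, -1, 1, -1, 0, 1], 18), ([0, 0, 1, -1, 0, 1, 0, -1], 18), ([0, -1, 0, 1, 0, -1, 1, -1], 18),
   ([0, 1, 0, 0, 0, 0, -1, 0], 18), ([-1, 0, 0, 0, 0, 1, -1, 1], 19), ([1, 0, -1, 0, 1, -1, 0, 1], 19),
   ([1, 0, -1, 0, 0, 1, 0, -1], 19), ([0, 0, 1, 0, -1, 0, 0, 1], 19), ([0, 0, 1, -1, 1, -1, 1, -1], 19),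
   ([0, -1, 0, 1, 0, 0, -1, 0], 19), ([-1, 0, 0, 0, 1, -1, 0, 1], 20), ([-1, 0, 0, 0, 0, 1, 0, -1], 20),
   ([1, 0, -1, 1, -1, 0, 0, 1], 20), ([1, 0, -1, 0, 1, -1, 1, -1], 20), ([0, 0, 1, 0, -1, 0, 1, -1], 20),
   ([0, 0, 1, -1, 1, 0, -1, 0], 20), ([-1, 0, 0, 1, -1, 0, 0, 1], 21), ([-1, 0, 0, 0, 1, -1, 1, -1], 21),
   ([1, 1, 0, -1, 0, 0, 0, 1], 21), ([1, 0, -1, 1, -1, 0, 1, -1], 21), ([1, 0, -1, 0, 1, 0, -1, 0], 21),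
   ([0, 0, 1, 0, -1, 1, -1, 0], 21), ([-1, 1, 1, -1, 0, 0, 0, 1], 22), ([-1, 0, 0, 1, -1, 0, 1, -1], 22)]

def chainE8_7_3 : List (List ℤ × ℕ) :=
  [([-1, 0, 0, 0, 1, 0, -1, 0], 22), ([1, -1, 0, 0, 0, 0, 0, 1], 22), ([1, 1, 0, -1, 0, 0, 1, -1], 22),
   ([1, 0, -1, 1, -1, 1, -1, 0], 22), ([0, 0, 1, 0, 0, -1, 0, 0], 22), ([-1, -1, 1, 0, 0, 0, 0, 1], 23),
   ([0, 1, -1, 0, 0, 0, 0, 1], 23), ([-1, 1, 1, -1, 0, 0, 1, -1], 23), ([-1, 0, 0, 1, -1, 1, -1, 0], 23),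
   ([1, -1, 0, 0, 0, 0, 1, -1], 23), ([1, 1, 0, -1, 0, 1, -1, 0], 23), ([1, 0, -1, 1, 0, -1, 0, 0], 23),
   ([0, -1, -1, 1, 0, 0, 0, 1], 24), ([-1, -1, 1, 0, 0, 0, 1, -1], 24), ([0, 1, -1, 0, 0, 0, 1, -1], 24),
   ([-1, 1, 1, -1, 0, 1, -1, 0], 24), ([-1, 0, 0, 1, 0, -1, 0, 0], 24), ([1, -1, 0, 0, 0, 1, -1, 0], 24),
   ([1, 1, 0, -1, 1, -1, 0, 0], 24), ([0, 0, 0, -1, 1, 0, 0, 1], 25), ([0, -1, -1, 1, 0, 0, 1, -1], 25),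
   ([-1, -1, 1, 0, 0, 1, -1, 0], 25), ([0, 1, -1, 0, 0, 1, -1, 0], 25), ([-1, 1, 1, -1, 1, -1, 0, 0], 25)]

def chainE8_7_4 : List (List ℤ × ℕ) :=
  [([1, -1, 0, 0, 1, -1, 0, 0], 25), ([1, 1, 0, 0, -1, 0, 0, 0], 25), ([0, 0, 0, 0, -1, 1, 0, 1], 26),
   ([0, 0, 0, -1, 1, 0, 1, -1], 26), ([0, -1, -1, 1, 0, 1, -1, 0], 26), ([-1, -1, 1, 0, 1, -1, 0, 0], 26),
   ([0, 1, -1, 0, 1, -1, 0, 0], 26), ([-1, 1, 1, 0, -1, 0, 0, 0], 26), ([1, -1, 0, 1, -1, 0, 0, 0], 26),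
   ([0, 0, 0, 0, 0, -1, 1, 1], 27), ([0, 0, 0, 0, -1, 1, 1, -1], 27), ([0, 0, 0, -1, 1, 1, -1, 0], 27),
   ([0, -1, -1, 1, 1, -1, 0, 0], 27), ([-1, -1, 1, 1, -1, 0, 0, 0], 27), ([0, 1, -1, 1, -1, 0, 0, 0], 27),
   ([1, 0, 1, -1, 0, 0, 0, 0], 27), ([0, 0, 0, 0, 0, 0, -1, 2], 28), ([0, 0, 0, 0, 0, -1, 2, -1], 28),
   ([0, 0, 0, 0, -1, 2, -1, 0], 28), ([0, 0, 0, -1, 2, -1, 0, 0], 28), ([0, -1, -1, 2, -1, 0, 0, 0], 28),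
   ([-1, 0, 2, -1, 0, 0, 0, 0], 28), ([0, 2, 0, -1, 0, 0, 0, 0], 28), ([2, 0, -1, 0, 0, 0, 0, 0], 28)]

def chainE8_7_5 : List (List ℤ × ℕ) :=
  [([0, 0, 0, 0, 0, 0, 1, -2], 29), ([0, 0, 0, 0, 0, 1, -2, 1], 29), ([0, 0, 0, 0, 1, -2, 1, 0], 29),
   ([0, 0, 0, 1, -2, 1, 0, 0], 29), ([0, 1, 1, -2, 1, 0, 0, 0], 29), ([1, 0, -2, 1, 0, 0, 0, 0], 29),
   ([0, -2, 0, 1, 0, 0, 0, 0], 29), ([-2, 0, 1, 0, 0, 0, 0, 0], 29), ([0, 0, 0, 0, 0, 1, -1, -1], 30),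
   ([0, 0, 0, 0, 1, -1, -1, 1], 30), ([0, 0, 0, 1, -1, -1, 1, 0], 30), ([0, 1, 1, -1, -1, 1, 0, 0], 30),
   ([0, -1, 1, -1, 1, 0, 0, 0], 30), ([1, 1, -1, -1, 1, 0, 0, 0], 30), ([-1, 0, -1, 1, 0, 0, 0, 0], 30),
   ([0, 0, 0, 0, 1, -1, 0, -1], 31), ([0, 0, 0, 1, -1, 0, -1, 1], 31), ([0, 1, 1, -1, 0, -1, 1, 0], 31),
   ([0, -1, 1, 0, -1, 1, 0, 0], 31), ([1, 1, -1, 0, -1, 1, 0, 0], 31), ([1, -1, -1, 0, 1, 0, 0, 0], 31),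
   ([-1, 1, 0, -1, 1, 0, 0, 0], 31), ([0, 0, 0, 1, -1, 0, 0, -1], 32), ([0, 1, 1, -1, 0, 0, -1, 1], 32)]

def chainE8_7_6 : List (List ℤ × ℕ) :=
  [([0, -1, 1, 0, 0, -1, 1, 0], 32), ([1, 1, -1, 0, 0, -1, 1, 0], 32), ([1, -1, -1, 1, -1, 1, 0, 0], 32),
   ([-1, 1, 0, 0, -1, 1, 0, 0], 32), ([-1, -1, 0, 0, 1, 0, 0, 0], 32), ([0, 1, 1, -1, 0, 0, 0, -1], 33),
   ([0, -1, 1, 0, 0, 0, -1, 1], 33), ([1, 1, -1, 0, 0, 0, -1, 1], 33), ([1, -1, -1, 1, 0, -1, 1, 0], 33),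
   ([-1, 1, 0, 0, 0, -1, 1, 0], 33), ([-1, -1, 0, 1, -1, 1, 0, 0], 33), ([1, 0, 0, -1, 0, 1, 0, 0], 33),
   ([0, -1, 1, 0, 0, 0, 0, -1], 34), ([1, 1, -1, 0, 0, 0, 0, -1], 34), ([1, -1, -1, 1, 0, 0, -1, 1], 34),
   ([-1, 1, 0, 0, 0, 0, -1, 1], 34), ([-1, -1, 0, 1, 0, -1, 1, 0], 34), ([1, 0, 0, -1, 1, -1, 1, 0], 34),
   ([-1, 0, 1, -1, 0, 1, 0, 0], 34), ([1, -1, -1, 1, 0, 0, 0, -1], 35), ([-1, 1, 0, 0, 0, 0, 0, -1], 35),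
   ([-1, -1, 0, 1, 0, 0, -1, 1], 35), ([1, 0, 0, -1, 1, 0, -1, 1], 35), ([-1, 0, 1, -1, 1, -1, 1, 0], 35)]

def chainE8_7_7 : List (List ℤ × ℕ) :=
  [([1, 0, 0, 0, -1, 0, 1, 0], 35), ([0, 0, -1, 0, 0, 1, 0, 0], 35), ([-1, -1, 0, 1, 0, 0, 0, -1], 36),
   ([1, 0, 0, -1, 1, 0, 0, -1], 36), ([-1, 0, 1, -1, 1, 0, -1, 1], 36), ([1, 0, 0, 0, -1, 1, -1, 1], 36),
   ([0, 0, -1, 0, 1, -1, 1, 0], 36), ([-1, 0, 1, 0, -1, 0, 1, 0], 36), ([-1, 0, 1, -1, 1, 0, 0, -1], 37),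
   ([1, 0, 0, 0, -1, 1, 0, -1], 37), ([0, 0, -1, 0, 1, 0, -1, 1], 37), ([-1, 0, 1, 0, -1, 1, -1, 1], 37),
   ([1, 0, 0, 0, 0, -1, 0, 1], 37), ([0, 0, -1, 1, -1, 0, 1, 0], 37), ([0, 0, -1, 0, 1, 0, 0, -1], 38),
   ([-1, 0, 1, 0, -1, 1, 0, -1], 38), ([1, 0, 0, 0, 0, -1, 1, -1], 38), ([0, 0, -1, 1, -1, 1, -1, 1], 38),
   ([-1, 0, 1, 0, 0, -1, 0, 1], 38), ([0, 1, 0, -1, 0, 0, 1, 0], 38), ([0, 0, -1, 1, -1, 1, 0, -1], 39),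
   ([-1, 0, 1, 0, 0, -1, 1, -1], 39), ([1, 0, 0, 0, 0, 0, -1, 0], 39), ([0, 1, 0, -1, 0, 1, -1, 1], 39)]

def chainE8_7_8 : List (List ℤ × ℕ) :=
  [([0, 0, -1, 1, 0, -1, 0, 1], 39), ([0, -1, 0, 0, 0, 0, 1, 0], 39), ([0, 1, 0, -1, 0, 1, 0, -1], 40),
   ([0, 0, -1, 1, 0, -1, 1, -1], 40), ([-1, 0, 1, 0, 0, 0, -1, 0], 40), ([0, -1, 0, 0, 0, 1, -1, 1], 40),
   ([0, 1, 0, -1, 1, -1, 0, 1], 40), ([0, -1, 0, 0, 0, 1, 0, -1], 41), ([0, 1, 0, -1, 1, -1, 1, -1], 41),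
   ([0, 0, -1, 1, 0, 0, -1, 0], 41), ([0, -1, 0, 0, 1, -1, 0, 1], 41), ([0, 1, 0, 0, -1, 0, 0, 1], 41),
   ([0, -1, 0, 0, 1, -1, 1, -1], 42), ([0, 1, 0, 0, -1, 0, 1, -1], 42), ([0, 1, 0, -1, 1, 0, -1, 0], 42),
   ([0, -1, 0, 1, -1, 0, 0, 1], 42), ([0, -1, 0, 1, -1, 0, 1, -1], 43), ([0, -1, 0, 0, 1, 0, -1, 0], 43),
   ([0, 1, 0, 0, -1, 1, -1, 0], 43), ([0, 0, 1, -1, 0, 0, 0, 1], 43), ([0, 0, 1, -1, 0, 0, 1, -1], 44),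
   ([0, -1, 0, 1, -1, 1, -1, 0], 44), ([0, 1, 0, 0, 0, -1, 0, 0], 44), ([1, 0, -1, 0, 0, 0, 0, 1], 44)]

def chainE8_7_9 : List (List ℤ × ℕ) :=
  [([1, 0, -1, 0, 0, 0, 1, -1], 45), ([0, 0, 1, -1, 0, 1, -1, 0], 45), ([0, -1, 0, 1, 0, -1, 0, 0], 45),
   ([-1, 0, 0, 0, 0, 0, 0, 1], 45), ([-1, 0, 0, 0, 0, 0, 1, -1], 46), ([1, 0, -1, 0, 0, 1, -1, 0], 46),
   ([0, 0, 1, -1, 1, -1, 0, 0], 46), ([-1, 0, 0, 0, 0, 1, -1, 0], 47), ([1, 0, -1, 0, 1, -1, 0, 0], 47),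
   ([0, 0, 1, 0, -1, 0, 0, 0], 47), ([-1, 0, 0, 0, 1, -1, 0, 0], 48), ([1, 0, -1, 1, -1, 0, 0, 0], 48),
   ([-1, 0, 0, 1, -1, 0, 0, 0], 49), ([1, 1, 0, -1, 0, 0, 0, 0], 49), ([-1, 1, 1, -1, 0, 0, 0, 0], 50),
   ([1, -1, 0, 0, 0, 0, 0, 0], 50), ([-1, -1, 1, 0, 0, 0, 0, 0], 51), ([0, 1, -1, 0, 0, 0, 0, 0], 51),
   ([0, -1, -1, 1, 0, 0, 0, 0], 52), ([0, 0, 0, -1, 1, 0, 0, 0], 53), ([0, 0, 0, 0, -1, 1, 0, 0], 54),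
   ([0, 0, 0, 0, 0, -1, 1, 0], 55), ([0, 0, 0, 0, 0, 0, -1, 1], 56), ([0, 0, 0, 0, 0, 0, 0, -1], 57)]

def chainE8_7 : OStep 8 := ⟨[0, 1, 2, 3, 4, 5, 6, 7], [0, 0, 0, 0, 0, 0, 0, 1],
  chainE8_7_0 ++ chainE8_7_1 ++ chainE8_7_2 ++ chainE8_7_3 ++ chainE8_7_4 ++ chainE8_7_5 ++ chainE8_7_6 ++ chainE8_7_7 ++ chainE8_7_8 ++ chainE8_7_9⟩

def chainE8 : List (OStep 8) := [chainE8_0, chainE8_1, chainE8_2, chainE8_3, chainE8_4, chainE8_5, chainE8_6, chainE8_7]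

theorem chainE8_ok : chainOK alE8 1 [] chainE8 = true := by decide +kernel

theorem chainE8_hs : chainE8.map (OStep.hs 1) =
    [[0, 1], [0, 1, 2], [0, 1, 2, 3], [0, 1, 2, 3, 4], [0, 1, 2, 3, 3, 4, 4, 5, 5, 6, 6, 7, 7, 8, 9, 10], [0, 1, 2, 3, 4, 4, 5, 5, 6, 6, 7, 7, 8, 8, 8, 9, 9, 10, 10, 11, 11, 12, 12, 13, 14, 15, 16], [0, 1, 2, 3, 4, 5, 5, 6, 6, 7, 7, 8, 8, 9, 9, 9, 10, 10, 10, 11, 11, 11, 12, 12, 12, 13, 13, 13, 14, 14, 14, 15, 15, 15, 16, 16, 16, 17, 17, 17, 18, 18, 18, 19, 19, 20, 20, 21, 21, 22, 22, 23, 24, 25, 26, 27], [0, 1, 2, 3, 4, 5, 6, 6, 7, 7, 8, 8, 9, 9, 10, 10, 10, 11, 11, 11, 12, 12, 12, 12, 13, 13, 13, 13, 14, 14, 14, 14, 15, 15, 15, 15, 16, 16, 16, 16, 16, 17, 17, 17, 17, 17, 18, 18, 18, 18, 18, 18, 19, 19, 19, 19, 19,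 19, 20, 20, 20, 20, 20, 20, 21, 21, 21, 21, 21, 21, 22, 22, 22, 22, 22, 22, 22, 23, 23, 23, 23, 23, 23, 23, 24, 24, 24, 24, 24, 24, 24, 25, 25, 25, 25, 25, 25, 25, 26, 26, 26, 26, 26, 26, 26, 27, 27, 27, 27, 27, 27, 27, 28, 28, 28, 28, 28, 28, 28, 28, 29, 29, 29, 29, 29, 29, 29, 29, 30, 30, 30, 30, 30, 30, 30, 31, 31, 31, 31, 31, 31, 31, 32, 32, 32, 32, 32, 32, 32, 33, 33, 33, 33, 33, 33, 33, 34, 34, 34, 34, 34, 34, 34, 35, 35, 35, 35, 35, 35, 35, 36, 36, 36, 36, 36, 36, 37, 37, 37, 37, 37, 37, 38, 38, 38, 38, 38, 38, 39, 39, 39, 39, 39, 39, 40, 40, 40, 40, 40, 41, 41, 41, 41, 41, 42, 42, 42, 42, 43, 43, 43, 43, 44, 44, 44, 44, 45, 45, 45, 45, 46, 46, 46, 47, 47, 47, 48, 48, 49, 49, 50, 50, 51, 51, 52, 53, 54, 55, 56, 57]] := by decide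 +kernel

theorem finiteE8 {W : Type*} [Group W] (cs : CoxeterSystem (CoxeterMatrix.E₈) W) : Finite W :=
  (chain_poin_univ alE8_len alE8_rows cartanE8 cs _ chainE8_ok _ chainE8_hs).1

theorem cardE8 {W : Type*} [Group W] (cs : CoxeterSystem (CoxeterMatrix.E₈) W) : Nat.card W = 696729600 := by
  have := finiteE8 cs
  rw [card_of_poin cs,
    (chain_poin_univ alE8_len alE8_rows cartanE8 cs _ chainE8_ok _ chainE8_hs).2]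
  decide +kernel

theorem poinE8 {W : Type*} [Group W] (cs : CoxeterSystem (CoxeterMatrix.E₈) W) {R : Type} [CommRing R]
    (q : R) : poin cs Set.univ q * (q - 1) ^ 8 =
      (q ^ 2 - 1) * (q ^ 8 - 1) * (q ^ 12 - 1) * (q ^ 14 - 1) * (q ^ 18 - 1) * (q ^ 20 - 1) * (q ^ 24 - 1) * (q ^ 30 - 1) := by
  rw [(chain_poin_univ alE8_len alE8_rows cartanE8 cs _ chainE8_ok _ chainE8_hs).2]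
  simp only [List.map_cons, List.map_nil, List.sum_cons, List.sum_nil, List.prod_cons,
    List.prod_nil]
  ring

end H39
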